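import Mathlib

/-!
# Subgroups acting on invariant subgroups: passage to the faithful quotient (for S4191, RAT2)
-/

set_option autoImplicit false

namespace Cfsg.Agent.H62.RC

open Subgroup MulAction

universe u

/-- faithful action (elementwise) -/
def Faith (P V : Type u) [Group P] [AddCommGroup V] [DistribMulAction P V] : Prop :=
  ∀ g : P, (∀ v : V, g • v = v) → g = 1

section defs

variable {P V : Type u} [Group P] [AddCommGroup V] [DistribMulAction P V]

/-- the pointwise centralizer of `X` in `H` -/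
def fx (H : Subgroup P) (X : AddSubgroup V) : Subgroup P where
  carrier := {g | g ∈ H ∧ ∀ x ∈ X, g • x = x}
  one_mem' := ⟨H.one_mem, fun x _ => one_smul _ x⟩
  mul_mem' := fun {a b} ha hb => ⟨H.mul_mem ha.1 hb.1, fun x hx => by
    rw [mul_smul, hb.2 x hx, ha.2 x hx]⟩
  inv_mem' := fun {a} ha => ⟨H.inv_mem ha.1, fun x hx => by
    rw [inv_smul_eq_iff, ha.2 x hx]⟩

theorem mem_fx {H : Subgroup P} {X : AddSubgroup V} {g : P} :
    g ∈ fx H X ↔ g ∈ H ∧ ∀ x ∈ X, g • x = x := Iff.rfl

theorem fx_le (H : Subgroup P) (X : AddSubgroup V) : fx H X ≤ H := fun _ h => h.1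

theorem fx_le_stab (H : Subgroup P) {X : AddSubgroup V} {x : V} (hx : x ∈ X) :
    fx H X ≤ H ⊓ stabilizer P x := fun _ h => ⟨h.1, h.2 x hx⟩

/-- the action of `H` on the invariant subgroup `X` -/
def actHom (H : Subgroup P) (X : AddSubgroup V) (hX : ∀ h ∈ H, ∀ x ∈ X, h • x ∈ X) :
    ↥H →* (↥X ≃ₗ[ℤ] ↥X) where
  toFun h := AddEquiv.toIntLinearEquiv
    { toFun := fun x => ⟨(h : P) • (x : V), hX h h.2 x x.2⟩
      invFun := fun x => ⟨(h : P)⁻¹ • (x : V), hX _ (H.inv_mem h.2) x x.2⟩
      left_inv := fun x => Subtype.ext (inv_smul_smul _ _)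
      right_inv := fun x => Subtype.ext (smul_inv_smul _ _)
      map_add' := fun x y => Subtype.ext (smul_add _ _ _) }
  map_one' := by
    ext x
    exact one_smul P (x : V)
  map_mul' a b := by
    ext x
    exact mul_smul (a : P) (b : P) (x : V)

theorem actHom_apply (H : Subgroup P) (X : AddSubgroup V) (hX : ∀ h ∈ H, ∀ x ∈ X, h • x ∈ X)
    (h : H) (x : X) : ((actHom H X hX h x : X) : V) = (h : P) • (x : V) := rfl

end defs

section card

theorem card_comap {A B : Type*} [Group A] [Finite A] [Group B] (f : A →* B)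
    (hf : Function.Surjective f) (T : Subgroup B) :
    Nat.card (T.comap f) = Nat.card f.ker * Nat.card T := by
  have : Finite B := Finite.of_surjective f hf
  have h1 := (T.comap f).card_mul_index
  rw [T.index_comap_of_surjective hf] at h1
  have h2 := T.card_mul_index
  have h3 : Nat.card f.ker * Nat.card B = Nat.card A := by
    have h4 := f.ker.card_mul_index
    rw [Subgroup.index_ker, MonoidHom.range_eq_top.2 hf, Subgroup.card_top] at h4
    exact h4
  have hi : T.index ≠ 0 := Subgroup.FiniteIndex.index_ne_zero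
  apply Nat.eq_of_mul_eq_mul_right (Nat.pos_of_ne_zero hi)
  rw [h1, mul_assoc, h2, h3]

end card

section conv

variable {P V : Type u} [Group P] [Finite P] [AddCommGroup V] [DistribMulAction P V]

/-- **Passage to the faithful quotient.** -/
theorem conv (hP : IsPGroup 2 P) (H : Subgroup P) (X : AddSubgroup V)
    (hX : ∀ h ∈ H, ∀ x ∈ X, h • x ∈ X) :
    ∃ (Q : Type u) (_ : Group Q) (_ : Finite Q) (_ : DistribMulAction Q ↥X) (f : ↥H →* Q),
      IsPGroup 2 Q ∧ Faith Q ↥X ∧ Function.Surjective f ∧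
      (∀ (h : H) (x : X), ((f h • x : X) : V) = (h : P) • (x : V)) ∧
      Nat.card H = Nat.card (fx H X) * Nat.card Q ∧
      ∀ x : X, Nat.card ↥(H ⊓ stabilizer P (x : V)) =
        Nat.card (fx H X) * Nat.card (stabilizer Q x) := by
  let φ := actHom H X hX
  have hs : Function.Surjective φ.rangeRestrict := φ.rangeRestrict_surjective
  have hfin : Finite φ.range := Finite.of_surjective _ hs
  have hact : ∀ (h : H) (x : X), ((φ.rangeRestrict h • x : X) : V) = (h : P) • (x : V) :=
    fun h x => rfl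
  have hk : (φ.rangeRestrict.ker).map H.subtype = fx H X := by
    ext g
    constructor
    · rintro ⟨h, hh, rfl⟩
      refine ⟨h.2, fun x hx => ?_⟩
      have h1 : φ.rangeRestrict h = 1 := hh
      have h2 := hact h ⟨x, hx⟩
      rw [h1, one_smul] at h2
      exact h2.symm
    · rintro ⟨hg, hx⟩
      refine ⟨⟨g, hg⟩, ?_, rfl⟩
      show φ.rangeRestrict ⟨g, hg⟩ = 1
      apply Subtype.ext
      apply LinearEquiv.ext
      intro x
      apply Subtype.ext
      exact hx x x.2
  have hkc : Nat.card φ.rangeRestrict.ker = Nat.card (fx H X) := by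
    rw [← hk]
    exact Nat.card_congr
      (Subgroup.equivMapOfInjective _ _ H.subtype_injective).toEquiv
  refine ⟨φ.range, inferInstance, hfin, inferInstance, φ.rangeRestrict,
    IsPGroup.of_surjective (hP.to_subgroup H) _ hs, ?_, hs, hact, ?_, ?_⟩
  · intro q hq
    apply Subtype.ext
    apply LinearEquiv.ext
    intro x
    exact hq x
  · rw [← hkc]
    have h1 := card_comap φ.rangeRestrict hs ⊤
    rw [Subgroup.comap_top, Subgroup.card_top, Subgroup.card_top] at h1
    exact h1
  · intro x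
    rw [← hkc, ← card_comap φ.rangeRestrict hs]
    have h2 : ((stabilizer φ.range x).comap φ.rangeRestrict).map H.subtype =
        H ⊓ stabilizer P (x : V) := by
      ext g
      constructor
      · rintro ⟨h, hh, rfl⟩
        refine ⟨h.2, ?_⟩
        have h3 : φ.rangeRestrict h • x = x := hh
        have h4 := hact h x
        rw [h3] at h4
        exact h4.symm
      · rintro ⟨hg, hx⟩
        refine ⟨⟨g, hg⟩, ?_, rfl⟩
        show φ.rangeRestrict ⟨g, hg⟩ • x = x
        apply Subtype.ext
        exact hx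
    rw [← h2]
    exact Nat.card_congr
      (Subgroup.equivMapOfInjective _ _ H.subtype_injective).symm.toEquiv

end conv

section odd

variable {P V : Type u} [Group P] [AddCommGroup V] [DistribMulAction P V]

theorem eq_zero_of_add_self (hV : ¬ 2 ∣ Nat.card V) {v : V} (h : v + v = 0) : v = 0 := by
  have h1 : addOrderOf v ∣ 2 := addOrderOf_dvd_of_nsmul_eq_zero (by rw [two_nsmul, h])
  have h2 : addOrderOf v ∣ Nat.card V := addOrderOf_dvd_natCard v
  rcases (Nat.dvd_prime Nat.prime_two).1 h1 with h3 | h3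
  · exact AddMonoid.addOrderOf_eq_one_iff.1 h3
  · rw [h3] at h2
    exact absurd h2 hV

theorem eq_zero_of_eq_neg (hV : ¬ 2 ∣ Nat.card V) {v : V} (h : v = -v) : v = 0 :=
  eq_zero_of_add_self hV (by nth_rw 2 [h]; exact add_neg_cancel v)

theorem exists_half (hV : ¬ 2 ∣ Nat.card V) (v : V) : ∃ w : V, w + w = v := by
  obtain ⟨k, hk⟩ : ∃ k, Nat.card V = 2 * k + 1 := ⟨Nat.card V / 2, by omega⟩
  refine ⟨(k + 1) • v, ?_⟩
  rw [← add_nsmul, show k + 1 + (k + 1) = Nat.card V + 1 by omega, add_nsmul, card_nsmul_eq_zero',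
    zero_add, one_nsmul]

/-- fixed vectors of `s` -/
def plus (V : Type u) [AddCommGroup V] [DistribMulAction P V] (s : P) : AddSubgroup V where
  carrier := {v | s • v = v}
  zero_mem' := smul_zero s
  add_mem' := fun {a b} ha hb => by
    show s • (a + b) = a + b
    rw [smul_add, show s • a = a from ha, show s • b = b from hb]
  neg_mem' := fun {a} ha => by
    show s • (-a) = -a
    rw [smul_neg, show s • a = a from ha]

/-- vectors inverted by `s` -/
def minus (V : Type u) [AddCommGroup V] [DistribMulAction P V] (s : P) : AddSubgroup V where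
  carrier := {v | s • v = -v}
  zero_mem' := by
    show s • (0 : V) = -0
    rw [smul_zero, neg_zero]
  add_mem' := fun {a b} ha hb => by
    show s • (a + b) = -(a + b)
    rw [smul_add, show s • a = -a from ha, show s • b = -b from hb, neg_add]
  neg_mem' := fun {a} ha => by
    show s • (-a) = - -a
    rw [smul_neg, show s • a = -a from ha]

theorem mem_plus {s : P} {v : V} : v ∈ plus V s ↔ s • v = v := Iff.rfl

theorem mem_minus {s : P} {v : V} : v ∈ minus V s ↔ s • v = -v := Iff.rfl

theorem plus_inf_minus (hV : ¬ 2 ∣ Nat.card V) (s : P) : plus V s ⊓ minus V s = ⊥ := by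
  rw [eq_bot_iff]
  rintro v ⟨h1, h2⟩
  have h3 : s • v = v := h1
  have h4 : s • v = -v := h2
  exact (AddSubgroup.mem_bot).2 (eq_zero_of_eq_neg hV (h3.symm.trans h4))

theorem exists_dec (hV : ¬ 2 ∣ Nat.card V) {s : P} (hs : s * s = 1) (v : V) :
    ∃ x ∈ plus V s, ∃ y ∈ minus V s, v = x + y := by
  obtain ⟨w, hw⟩ := exists_half hV v
  have h1 : s • s • w = w := by rw [← mul_smul, hs, one_smul]
  refine ⟨w + s • w, ?_, w - s • w, ?_, ?_⟩
  · show s • (w + s • w) = w + s • w
    rw [smul_add, h1, add_comm]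
  · show s • (w - s • w) = -(w - s • w)
    rw [smul_sub, h1, neg_sub]
  · rw [← hw]
    abel

/-- components of a fixed vector -/
theorem comp_of_fix {X Y : AddSubgroup V} (hXY : X ⊓ Y = ⊥) {g : P} (hX : ∀ x ∈ X, g • x ∈ X)
    (hY : ∀ y ∈ Y, g • y ∈ Y) {x y : V} (hx : x ∈ X) (hy : y ∈ Y) (h : g • (x + y) = x + y) :
    g • x = x ∧ g • y = y := by
  have h1 : g • x - x = -(g • y - y) := by
    rw [smul_add] at h
    have h2 : g • x + g • y - (x + y) = 0 := by rw [h, sub_self]
    have h3 : g • x - x + (g • y - y) = 0 := by rw [← h2]; abel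
    exact eq_neg_of_add_eq_zero_left h3
  have h2 : g • x - x ∈ X ⊓ Y :=
    ⟨X.sub_mem (hX x hx) hx, h1 ▸ Y.neg_mem (Y.sub_mem (hY y hy) hy)⟩
  rw [hXY, AddSubgroup.mem_bot] at h2
  rw [h2] at h1
  exact ⟨sub_eq_zero.1 h2, sub_eq_zero.1 (neg_eq_zero.1 h1.symm)⟩

/-- `s` acts as `-1` if it has no fixed vectors -/
theorem eq_neg_of_plus (hV : ¬ 2 ∣ Nat.card V) {s : P} (hs : s * s = 1) (h : plus V s = ⊥)
    (v : V) : s • v = -v := by
  obtain ⟨x, hx, y, hy, rfl⟩ := exists_dec hV hs v
  rw [h, AddSubgroup.mem_bot] at hx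
  rw [hx, zero_add]
  exact hy

theorem exists_minus {s : P} (hss : s * s = 1) {v : V} (hv : s • v ≠ v) :
    ∃ y ∈ minus V s, y ≠ 0 := by
  refine ⟨v - s • v, ?_, fun h => hv (sub_eq_zero.1 h).symm⟩
  show s • (v - s • v) = -(v - s • v)
  rw [smul_sub, ← mul_smul, hss, one_smul, neg_sub]

/-- a vector with trivial stabilizer for commutative groups -/
theorem exists_regular [Finite P] (hP : IsPGroup 2 P) (hV : ¬ 2 ∣ Nat.card V) (hf : Faith P V)
    (hc : ∀ a b : P, a * b = b * a) : ∃ v : V, stabilizer P v = ⊥ := by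
  have hwf : ∃ v : V, ∀ w : V, Nat.card (stabilizer P v) ≤ Nat.card (stabilizer P w) := by
    obtain ⟨n, ⟨v, hv⟩, hn⟩ := WellFounded.has_min (wellFounded_lt (α := ℕ))
      (Set.range fun v : V => Nat.card (stabilizer P v)) ⟨_, ⟨0, rfl⟩⟩
    exact ⟨v, fun w => not_lt.1 fun h => hn _ ⟨w, rfl⟩ (by rw [← hv]; exact h)⟩
  obtain ⟨v, hv⟩ := hwf
  refine ⟨v, ?_⟩
  by_contra hne
  have h2 : 2 ∣ Nat.card (stabilizer P v) := by
    have hf2 : Fact (Nat.Prime 2) := ⟨Nat.prime_two⟩
    obtain ⟨n, hn⟩ := IsPGroup.iff_card.1 (hP.to_subgroup (stabilizer P v))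
    rcases Nat.eq_zero_or_pos n with h0 | h0
    · exfalso
      apply hne
      rw [h0, pow_zero] at hn
      exact Subgroup.card_eq_one.1 hn
    · rw [hn]
      exact dvd_pow_self 2 h0.ne'
  have hf2 : Fact (Nat.Prime 2) := ⟨Nat.prime_two⟩
  obtain ⟨s, hs⟩ := exists_prime_orderOf_dvd_card' 2 h2
  have hs1 : (s : P) * s = 1 := by
    have h3 := pow_orderOf_eq_one s
    rw [hs, pow_two] at h3
    exact congrArg Subtype.val h3
  have hsne : (s : P) ≠ 1 := by
    intro h
    have h4 : s = 1 := Subtype.ext h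
    rw [h4, orderOf_one] at hs
    omega
  obtain ⟨u, hu⟩ : ∃ u : V, (s : P) • u ≠ u := by
    by_contra h
    push Not at h
    exact hsne (hf _ h)
  obtain ⟨y, hy, hy0⟩ := exists_minus hs1 hu
  have hplus : ∀ g : P, ∀ x ∈ plus V (s : P), g • x ∈ plus V (s : P) := by
    intro g x hx
    show (s : P) • g • x = g • x
    rw [← mul_smul, hc, mul_smul, show (s : P) • x = x from hx]
  have hminus : ∀ g : P, ∀ x ∈ minus V (s : P), g • x ∈ minus V (s : P) := by
    intro g x hx
    show (s : P) • g • x = -(g • x)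
    rw [← mul_smul, hc, mul_smul, show (s : P) • x = -x from hx, smul_neg]
  have hvs : v ∈ plus V (s : P) := s.2
  have hlt : stabilizer P (v + y) < stabilizer P v := by
    refine lt_of_le_of_ne ?_ ?_
    · intro g hg
      exact (comp_of_fix (plus_inf_minus hV (s : P)) (hplus g) (hminus g) hvs hy hg).1
    · intro h
      have h5 : (s : P) ∈ stabilizer P (v + y) := by
        rw [h]
        exact s.2
      have h6 := (comp_of_fix (plus_inf_minus hV (s : P)) (hplus s) (hminus s) hvs hy h5).2
      have h7 : (s : P) • y = -y := hy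
      rw [h7] at h6
      exact hy0 (eq_zero_of_eq_neg hV h6.symm)
  have h8 := hv (v + y)
  have h9 : Nat.card (stabilizer P (v + y)) < Nat.card (stabilizer P v) := by
    have := Set.Finite.subset (Set.toFinite (stabilizer P v : Set P)) hlt.le
    exact Set.ncard_lt_ncard hlt (Set.toFinite _)
  omega

end odd

end Cfsg.Agent.H62.RC
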