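import Mathlib
import Cfsg.Agent.H62.RC.Conv

/-!
# `2`-groups transitive on the nonzero vectors (for S4191, RAT2)
-/

set_option autoImplicit false

namespace Cfsg.Agent.H62.RC

open Subgroup MulAction

universe u

theorem num_even {s j : ℕ} (h : s * s = 2 ^ j + 1) : s = 3 := by
  have hs : 1 < s := by
    by_contra hlt
    have h1 : s * s ≤ 1 * 1 := Nat.mul_le_mul (by omega) (by omega)
    have h2 : 0 < 2 ^ j := by positivity
    omega
  obtain ⟨t, rfl⟩ : ∃ t, s = t + 1 := ⟨s - 1, by omega⟩
  have h1 : t * (t + 2) = 2 ^ j := by nlinarith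
  obtain ⟨a, -, ha⟩ := (Nat.dvd_prime_pow Nat.prime_two).1 ⟨_, h1.symm⟩
  obtain ⟨b, -, hb⟩ := (Nat.dvd_prime_pow Nat.prime_two).1 (show t + 2 ∣ 2 ^ j from
    ⟨t, by rw [← h1, mul_comm]⟩)
  rcases a with _ | _ | a
  · simp only [pow_zero] at ha
    rw [ha] at hb
    rcases b with _ | b
    · simp at hb
    · rw [pow_succ] at hb
      omega
  · simp only [zero_add, pow_one] at ha
    omega
  · exfalso
    rcases b with _ | _ | b
    · simp at hb
    · simp only [zero_add, pow_one] at hb
      omega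
    · rw [ha] at hb
      have e1 : 2 ^ (a + 1 + 1) = 4 * 2 ^ a := by ring
      have e2 : 2 ^ (b + 1 + 1) = 4 * 2 ^ b := by ring
      rw [e1, e2] at hb
      omega

theorem num_odd {r l j : ℕ} (hr : 2 < r) (ho : Odd r) (h : r ^ (2 * l + 1) = 2 ^ j + 1) :
    l = 0 := by
  have hodd : Odd (∑ i ∈ Finset.range (2 * l + 1), r ^ i) := by
    rw [Finset.odd_sum_iff_odd_card_odd]
    have : Finset.filter (fun x => Odd (r ^ x)) (Finset.range (2 * l + 1)) =
        Finset.range (2 * l + 1) := by
      apply Finset.filter_true_of_mem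
      intro x _
      exact ho.pow
    rw [this, Finset.card_range]
    exact ⟨l, rfl⟩
  have h1 : (∑ i ∈ Finset.range (2 * l + 1), r ^ i) * (r - 1) = 2 ^ j := by
    have h0 : 1 ≤ r := by omega
    rw [geom_sum_mul_of_one_le h0, h, Nat.add_sub_cancel]
  obtain ⟨a, -, ha⟩ := (Nat.dvd_prime_pow Nat.prime_two).1 (Dvd.intro _ h1)
  rcases a with _ | a
  · rw [pow_zero] at ha
    by_contra hl
    have h2 : ∑ i ∈ Finset.range 2, r ^ i ≤ ∑ i ∈ Finset.range (2 * l + 1), r ^ i :=
      Finset.sum_le_sum_of_subset (Finset.range_mono (by omega))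
    have h3 : ∑ i ∈ Finset.range 2, r ^ i = 1 + r := by
      rw [Finset.sum_range_succ, Finset.sum_range_one, pow_zero, pow_one]
    rw [h3, ha] at h2
    omega
  · exfalso
    rw [ha] at hodd
    rw [← Nat.not_even_iff_odd] at hodd
    exact hodd (even_two.pow_of_ne_zero (by omega))

theorem num_pow {r m j : ℕ} (hr : 2 < r) (ho : Odd r) (hm : m ≠ 0) (h : r ^ m = 2 ^ j + 1) :
    m = 1 ∨ r ^ m = 9 := by
  rcases Nat.even_or_odd' m with ⟨l, rfl | rfl⟩
  · right
    have h1 : r ^ l = 3 := num_even (by rw [← pow_add, ← two_mul, h])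
    rw [two_mul, pow_add, h1]
    rfl
  · left
    rw [num_odd hr ho h]

section

variable {Q W : Type u} [Group Q] [Finite Q] [AddCommGroup W] [Finite W] [DistribMulAction Q W]

omit [Finite Q] [Finite W] in
/-- in a group of prime order nonzero vectors have trivial stabilizers -/
theorem smul_eq_of_prime (hp : (Nat.card W).Prime) {x : W} (hx : x ≠ 0) {q : Q} (hq : q • x = x)
    (y : W) : q • y = y := by
  have hf : Fact (Nat.card W).Prime := ⟨hp⟩
  have h1 : y ∈ AddSubgroup.zmultiples x := by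
    have h2 : AddSubgroup.zmultiples x = ⊤ :=
      zmultiples_eq_top_of_prime_card (p := Nat.card W) rfl hx
    rw [h2]
    exact AddSubgroup.mem_top y
  obtain ⟨k, rfl⟩ := AddSubgroup.mem_zmultiples_iff.1 h1
  rw [smul_comm, hq]

/-- the fixed vectors of an element -/
def fixed (q : Q) : AddSubgroup W where
  carrier := {v | q • v = v}
  zero_mem' := smul_zero q
  add_mem' := fun {a b} ha hb => by
    show q • (a + b) = a + b
    rw [smul_add, show q • a = a from ha, show q • b = b from hb]
  neg_mem' := fun {a} ha => by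
    show q • (-a) = -a
    rw [smul_neg, show q • a = a from ha]

/-- order `9` : a `2`-group fixing a nonzero vector has order at most `2` -/
theorem card_le_two_of_nine (hQ : IsPGroup 2 Q) (hf : Faith Q W) (h9 : Nat.card W = 9) {x : W}
    (hx3 : addOrderOf x = 3) (S : Subgroup Q) (hS : ∀ s ∈ S, s • x = x) : Nat.card S ≤ 2 := by
  classical
  have hU : Nat.card (AddSubgroup.zmultiples x) = 3 := by rw [Nat.card_zmultiples, hx3]
  -- free action on the complement
  have hfree : ∀ s ∈ S, ∀ w : W, w ∉ AddSubgroup.zmultiples x → s • w = w → s = 1 := by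
    intro s hs w hw hsw
    have h1 : AddSubgroup.zmultiples x ≤ fixed s := by
      rw [AddSubgroup.zmultiples_le]
      exact hS s hs
    have h2 : Nat.card (fixed (W := W) s) ∣ 9 := by
      rw [← h9]
      exact AddSubgroup.card_addSubgroup_dvd_card _
    have h3 : Nat.card (fixed (W := W) s) ≠ 3 := by
      intro h3
      have h4 : AddSubgroup.zmultiples x = fixed s :=
        AddSubgroup.eq_of_le_of_card_ge h1 (by rw [hU, h3])
      exact hw (h4 ▸ hsw)
    have h4 : 3 ≤ Nat.card (fixed (W := W) s) := by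
      rw [← hU]
      exact AddSubgroup.card_le_of_le h1
    have h5 : Nat.card (fixed (W := W) s) = 9 := by
      obtain ⟨k, hk, hk'⟩ := (Nat.dvd_prime_pow Nat.prime_three).1
        (show Nat.card (fixed (W := W) s) ∣ 3 ^ 2 from h2)
      rw [hk'] at h3 h4 ⊢
      rcases k with _ | _ | _ | k
      · norm_num at h4
      · exact absurd rfl h3
      · rfl
      · omega
    have h6 : fixed (W := W) s = ⊤ := AddSubgroup.eq_top_of_card_eq _ (by rw [h5, h9])
    apply hf
    intro v
    have : v ∈ fixed (W := W) s := h6 ▸ AddSubgroup.mem_top v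
    exact this
  let Ω : SubMulAction S W :=
    { carrier := {w | w ∉ AddSubgroup.zmultiples x}
      smul_mem' := by
        intro s w hw hsw
        apply hw
        have h1 : ∀ y ∈ AddSubgroup.zmultiples x, (s : Q)⁻¹ • y = y := by
          intro y hy
          obtain ⟨k, rfl⟩ := AddSubgroup.mem_zmultiples_iff.1 hy
          rw [smul_comm, hS _ (S.inv_mem s.2)]
        have h2 := h1 _ hsw
        rw [show s • w = (s : Q) • w from rfl, inv_smul_smul] at h2
        rw [h2]
        exact hsw }
  have hst : ∀ w : Ω, stabilizer S w = ⊥ := by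
    intro w
    rw [eq_bot_iff]
    intro s hs
    have h1 : s • w = w := hs
    have h2 : (s : Q) • (w : W) = w := congrArg Subtype.val h1
    exact Subgroup.mem_bot.2 (Subtype.ext (hfree s s.2 w w.2 h2))
  have hdvd : Nat.card S ∣ Nat.card Ω := by
    rw [Nat.card_congr (selfEquivOrbitsQuotientProd hst), Nat.card_prod]
    exact dvd_mul_left _ _
  have hcard : Nat.card Ω = 6 := by
    have h1 : Nat.card Ω = Nat.card {w : W // ¬ w ∈ (AddSubgroup.zmultiples x : Set W)} := rfl
    have h2 : Nat.card {w : W // w ∈ (AddSubgroup.zmultiples x : Set W)} +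
        Nat.card {w : W // ¬ w ∈ (AddSubgroup.zmultiples x : Set W)} = Nat.card W := by
      rw [← Nat.card_sum]
      exact Nat.card_congr (Equiv.sumCompl _)
    have h3 : Nat.card {w : W // w ∈ (AddSubgroup.zmultiples x : Set W)} = 3 := hU
    omega
  rw [hcard] at hdvd
  have hf2 : Fact (Nat.Prime 2) := ⟨Nat.prime_two⟩
  obtain ⟨k, hk⟩ := IsPGroup.iff_card.1 (hQ.to_subgroup S)
  rw [hk] at hdvd ⊢
  rcases k with _ | _ | k
  · norm_num
  · norm_num
  · exfalso
    have h1 : 4 ∣ 6 := (Dvd.intro (2 ^ k) (by ring) : 4 ∣ 2 ^ (k + 1 + 1)).trans hdvd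
    revert h1
    decide

/-- **The transitive case.** -/
theorem trans_case (hQ : IsPGroup 2 Q) (hW : ¬ 2 ∣ Nat.card W) (hf : Faith Q W) {x : W}
    (hx : x ≠ 0) (ht : ∀ y : W, y ≠ 0 → ∃ q : Q, q • x = y) :
    Nat.card Q = (Nat.card W - 1) * Nat.card (stabilizer Q x) ∧
      (((Nat.card W).Prime ∧ Nat.card (stabilizer Q x) = 1) ∨
        (Nat.card W = 9 ∧ Nat.card (stabilizer Q x) ≤ 2)) := by
  classical
  have hf2 : Fact (Nat.Prime 2) := ⟨Nat.prime_two⟩
  have hidx : (stabilizer Q x).index = Nat.card W - 1 := by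
    rw [index_stabilizer]
    have h1 : orbit Q x = {y : W | y ≠ 0} := by
      ext y
      constructor
      · rintro ⟨q, rfl⟩
        intro h
        exact hx ((smul_eq_zero_iff_eq q).1 h)
      · intro hy
        obtain ⟨q, hq⟩ := ht y hy
        exact ⟨q, hq⟩
    rw [h1]
    have h2 : {y : W | y ≠ 0} = ({0} : Set W)ᶜ := rfl
    rw [h2, Set.ncard_compl, Set.ncard_singleton]
  refine ⟨by rw [← hidx, mul_comm, Subgroup.card_mul_index], ?_⟩
  obtain ⟨j, hj⟩ := hQ.index (stabilizer Q x)
  rw [hidx] at hj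
  have hpos : 0 < Nat.card W := Nat.card_pos
  have hcard : Nat.card W = 2 ^ j + 1 := by omega
  have hne1 : Nat.card W ≠ 1 := by
    have : 0 < 2 ^ j := by positivity
    omega
  obtain ⟨r, hr, hrd⟩ := Nat.exists_prime_and_dvd hne1
  have hfr : Fact r.Prime := ⟨hr⟩
  have hr2 : r ≠ 2 := by
    rintro rfl
    exact hW hrd
  have hrgt : 2 < r := lt_of_le_of_ne hr.two_le (Ne.symm hr2)
  have hro : Odd r := hr.odd_of_ne_two hr2
  have := Fintype.ofFinite W
  obtain ⟨w, hw⟩ := exists_prime_addOrderOf_dvd_card (G := W) r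
    (by rwa [← Nat.card_eq_fintype_card])
  have hord : ∀ y : W, y ≠ 0 → addOrderOf y = addOrderOf x := by
    intro y hy
    obtain ⟨q, rfl⟩ := ht y hy
    exact addOrderOf_injective (DistribSMul.toAddMonoidHom W q) (MulAction.injective q) x
  have hw0 : w ≠ 0 := by
    rintro rfl
    rw [addOrderOf_zero] at hw
    exact hr.one_lt.ne hw
  have hxr : addOrderOf x = r := by rw [← hord w hw0, hw]
  obtain ⟨m, hm⟩ : ∃ m, Nat.card W = r ^ m := by
    have h1 : IsPGroup r (Multiplicative W) := by
      intro y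
      refine ⟨1, ?_⟩
      rw [pow_one]
      by_cases hy : Multiplicative.toAdd y = 0
      · have h2 : y = 1 := hy
        rw [h2, one_pow]
      · have h2 := hord _ hy
        have h3 : r • Multiplicative.toAdd y = 0 := by
          rw [← hxr, ← h2]
          exact addOrderOf_nsmul_eq_zero _
        exact h3
    obtain ⟨m, hm⟩ := IsPGroup.iff_card.1 h1
    exact ⟨m, hm⟩
  have hm0 : m ≠ 0 := by
    rintro rfl
    exact hne1 (by rw [hm, pow_zero])
  rcases num_pow hrgt hro hm0 (hm ▸ hcard) with h1 | h1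
  · left
    have hp : (Nat.card W).Prime := by
      rw [hm, h1, pow_one]
      exact hr
    refine ⟨hp, ?_⟩
    rw [Subgroup.card_eq_one, eq_bot_iff]
    intro q hq
    exact Subgroup.mem_bot.2 (hf q fun y => smul_eq_of_prime hp hx hq y)
  · right
    have h9 : Nat.card W = 9 := by rw [hm, h1]
    refine ⟨h9, ?_⟩
    have hr3 : r = 3 := by
      have h2 : r ∣ 9 := h9 ▸ hrd
      have h3 : r ∣ 3 ^ 2 := by simpa using h2
      exact (Nat.prime_dvd_prime_iff_eq hr Nat.prime_three).1 (hr.dvd_of_dvd_pow h3)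
    exact card_le_two_of_nine hQ hf h9 (by rw [hxr, hr3]) _ fun s hs => hs

end

end Cfsg.Agent.H62.RC
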