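import Mathlib
import Cfsg.Agent.H527.RC.Defs
import Cfsg.Agent.H62.RC.Conv
import Cfsg.Agent.H62.RC.TransCase
import Cfsg.Agent.Classification.NormalCyclic
import Cfsg.Agent.Transfer.PGroupNormal

/-!
# Large orbits of `2`-groups (task RAT2 of S4191)

`rat_two : Rat 2 7 15`: a `2`-group `P` acting faithfully on an abelian group `V` of odd order has a
vector `v` with `15 ν(C_P(v)) ≤ 7 ν(P)`.
-/

set_option autoImplicit false

namespace Cfsg.Agent.H62.RC

open Subgroup MulAction

universe u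

/-- the numerical claim -/
def Star (n a : ℕ) : Prop := 15 * a + 8 ≤ 7 * n ∨ (n ≤ 1 ∧ a = 0) ∨ (n = 3 ∧ a ≤ 1)

/-- a vector with small stabilizer -/
def Claim (P V : Type u) [Group P] [AddCommGroup V] [DistribMulAction P V] : Prop :=
  ∃ (v : V) (n a : ℕ), Nat.card P = 2 ^ n ∧ Nat.card (stabilizer P v) ≤ 2 ^ a ∧ Star n a

/-- the induction hypothesis -/
def IHyp (N : ℕ) : Prop :=
  ∀ (P V : Type u) [Group P] [Finite P] [AddCommGroup V] [Finite V] [DistribMulAction P V],
    IsPGroup 2 P → ¬ 2 ∣ Nat.card V → Faith P V → Nat.card V < N → Claim P V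

section general

variable {P V : Type u} [Group P] [Finite P] [AddCommGroup V] [Finite V] [DistribMulAction P V]

omit [Finite V] in
theorem Claim.ne_zero (h : Claim P V) (hV : ∃ v : V, v ≠ 0) :
    ∃ (v : V) (n a : ℕ), v ≠ 0 ∧ Nat.card P = 2 ^ n ∧ Nat.card (stabilizer P v) ≤ 2 ^ a ∧
      Star n a := by
  obtain ⟨v, n, a, h1, h2, h3⟩ := h
  by_cases hv : v = 0
  · subst hv
    have h4 : stabilizer P (0 : V) = ⊤ := by
      rw [eq_top_iff]
      intro g _
      exact smul_zero g
    rw [h4, Subgroup.card_top, h1] at h2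
    have h5 : n ≤ a := (Nat.pow_le_pow_iff_right (by norm_num)).1 h2
    have h6 : n = 0 ∧ a = 0 := by
      rcases h3 with h | h | h <;> omega
    obtain ⟨w, hw⟩ := hV
    refine ⟨w, 0, 0, hw, by rw [h1, h6.1], ?_, Or.inr (Or.inl ⟨by omega, rfl⟩)⟩
    have h7 : Nat.card (stabilizer P w) ≤ Nat.card P := Subgroup.card_le_card_group _
    rw [h1, h6.1] at h7
    exact h7
  · exact ⟨v, n, a, hv, h1, h2, h3⟩

omit [Finite P] in
theorem card_lt_of_ne_top {X : AddSubgroup V} (hX : X ≠ ⊤) : Nat.card X < Nat.card V := by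
  refine lt_of_le_of_ne (AddSubgroup.card_le_card_addGroup X) fun h => hX ?_
  exact AddSubgroup.eq_top_of_card_eq X h

omit [Finite P] [Finite V] in
theorem odd_sub (hV : ¬ 2 ∣ Nat.card V) (X : AddSubgroup V) : ¬ 2 ∣ Nat.card X :=
  fun h => hV (h.trans (AddSubgroup.card_addSubgroup_dvd_card X))

theorem rel (IH : IHyp.{u} (Nat.card V)) (hP : IsPGroup 2 P) (hV : ¬ 2 ∣ Nat.card V)
    (H : Subgroup P) (X : AddSubgroup V) (hX : ∀ h ∈ H, ∀ x ∈ X, h • x ∈ X) (hX1 : X ≠ ⊤)
    (hX0 : ∃ x ∈ X, x ≠ 0) :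
    ∃ x ∈ X, x ≠ 0 ∧ ∃ n a : ℕ, Nat.card H = Nat.card (fx H X) * 2 ^ n ∧
      Nat.card ↥(H ⊓ stabilizer P x) ≤ Nat.card (fx H X) * 2 ^ a ∧ Star n a := by
  obtain ⟨Q, i1, i2, i3, f, hQ, hf, -, -, h1, h2⟩ := conv hP H X hX
  obtain ⟨x0, hx0, hx0'⟩ := hX0
  obtain ⟨x, n, a, hx, h3, h4, h5⟩ :=
    (IH Q X hQ (odd_sub hV X) hf (card_lt_of_ne_top hX1)).ne_zero
      ⟨⟨x0, hx0⟩, fun h => hx0' (congrArg Subtype.val h)⟩
  refine ⟨x, x.2, fun h => hx (Subtype.ext h), n, a, by rw [h1, h3], ?_, h5⟩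
  rw [h2 x]
  exact Nat.mul_le_mul_left _ h4

theorem rel_trans (hP : IsPGroup 2 P) (hV : ¬ 2 ∣ Nat.card V)
    (H : Subgroup P) (X : AddSubgroup V) (hX : ∀ h ∈ H, ∀ x ∈ X, h • x ∈ X) {x : V} (hx : x ∈ X)
    (hx0 : x ≠ 0) (ht : ∀ y ∈ X, y ≠ 0 → ∃ h ∈ H, h • x = y) :
    Nat.card H = (Nat.card X - 1) * Nat.card ↥(H ⊓ stabilizer P x) ∧
      (((Nat.card X).Prime ∧ Nat.card ↥(H ⊓ stabilizer P x) = Nat.card (fx H X)) ∨
        (Nat.card X = 9 ∧ Nat.card ↥(H ⊓ stabilizer P x) ≤ Nat.card (fx H X) * 2)) := by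
  obtain ⟨Q, i1, i2, i3, f, hQ, hf, hs, hact, h1, h2⟩ := conv hP H X hX
  obtain ⟨h3, h4⟩ := trans_case hQ (odd_sub hV X) hf (x := ⟨x, hx⟩)
    (fun h => hx0 (congrArg Subtype.val h)) (by
      intro y hy
      obtain ⟨h, hh, hxy⟩ := ht y y.2 (fun h => hy (Subtype.ext h))
      refine ⟨f ⟨h, hh⟩, Subtype.ext ?_⟩
      rw [hact]
      exact hxy)
  have h5 := h2 ⟨x, hx⟩
  simp only at h5
  refine ⟨?_, ?_⟩
  · rw [h1, h3, h5]
    ring
  · rcases h4 with ⟨h6, h7⟩ | ⟨h6, h7⟩
    · left
      refine ⟨h6, ?_⟩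
      rw [h5, h7, mul_one]
    · right
      refine ⟨h6, ?_⟩
      rw [h5]
      exact Nat.mul_le_mul_left _ h7

omit [Finite V] in
theorem rel_regular (hP : IsPGroup 2 P) (hV : ¬ 2 ∣ Nat.card V)
    (H : Subgroup P) (X : AddSubgroup V) (hX : ∀ h ∈ H, ∀ x ∈ X, h • x ∈ X)
    (hc : ∀ a ∈ H, ∀ b ∈ H, a * b = b * a) (hk : fx H X = ⊥) :
    ∃ y ∈ X, H ⊓ stabilizer P y = ⊥ := by
  obtain ⟨Q, i1, i2, i3, f, hQ, hf, hs, hact, h1, h2⟩ := conv hP H X hX
  obtain ⟨y, hy⟩ := exists_regular hQ (odd_sub hV X) hf (by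
    intro a b
    obtain ⟨a, rfl⟩ := hs a
    obtain ⟨b, rfl⟩ := hs b
    rw [← map_mul, ← map_mul]
    congr 1
    exact Subtype.ext (hc a a.2 b b.2))
  refine ⟨y, y.2, ?_⟩
  rw [← Subgroup.card_eq_one, h2 y, hk, hy, Subgroup.card_bot, Subgroup.card_bot]

theorem card_count {K S S' : Subgroup P} (hKS : K ≤ S') (hS : S ≤ S') {a b : ℕ}
    (h1 : Nat.card S' ≤ Nat.card K * 2 ^ a) (h2 : Nat.card ↥(K ⊓ S) ≤ 2 ^ b) :
    Nat.card S ≤ 2 ^ (a + b) := by
  have h3 : Nat.card ↥(K ⊓ S) * K.relIndex S = Nat.card S := by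
    have := Subgroup.relIndex_mul_relIndex ⊥ (K ⊓ S) S bot_le inf_le_right
    rwa [Subgroup.relIndex_bot_left, Subgroup.relIndex_bot_left, Subgroup.inf_relIndex_right]
      at this
  have h4 : Nat.card K * K.relIndex S' = Nat.card S' := by
    have := Subgroup.relIndex_mul_relIndex ⊥ K S' bot_le hKS
    rwa [Subgroup.relIndex_bot_left, Subgroup.relIndex_bot_left] at this
  have h5 : K.relIndex S' ≤ 2 ^ a := by
    rw [← h4] at h1
    exact Nat.le_of_mul_le_mul_left h1 Nat.card_pos
  have h6 : K.relIndex S ≤ K.relIndex S' :=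
    Subgroup.relIndex_le_of_le_right hS (Subgroup.FiniteIndex.index_ne_zero)
  rw [← h3, pow_add, mul_comm]
  exact Nat.mul_le_mul (h6.trans h5) h2

end general

/-! ### Central involutions with fixed points -/

section reducible

variable {P V : Type u} [Group P] [Finite P] [AddCommGroup V] [Finite V] [DistribMulAction P V]

theorem Star.add {n1 a1 n2 a2 : ℕ} (h1 : Star n1 a1) (h2 : Star n2 a2) :
    Star (n1 + n2) (a1 + a2) := by
  unfold Star at *
  omega

theorem red_step (IH : IHyp.{u} (Nat.card V)) (hP : IsPGroup 2 P) (hV : ¬ 2 ∣ Nat.card V)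
    (hf : Faith P V) {s : P} (hs : s * s = 1) (hs1 : s ≠ 1) (hc : ∀ g, s * g = g * s)
    (hfix : plus V s ≠ ⊥) : Claim P V := by
  have hplus : ∀ g : P, ∀ x ∈ plus V s, g • x ∈ plus V s := by
    intro g x hx
    show s • g • x = g • x
    rw [← mul_smul, hc, mul_smul, show s • x = x from hx]
  have hminus : ∀ g : P, ∀ x ∈ minus V s, g • x ∈ minus V s := by
    intro g x hx
    show s • g • x = -(g • x)
    rw [← mul_smul, hc, mul_smul, show s • x = -x from hx, smul_neg]
  have hinf := plus_inf_minus hV s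
  obtain ⟨u, hu⟩ : ∃ u : V, s • u ≠ u := by
    by_contra h
    push Not at h
    exact hs1 (hf _ h)
  obtain ⟨y0, hy0, hy0'⟩ := exists_minus hs hu
  obtain ⟨x0, hx0, hx0'⟩ : ∃ x ∈ plus V s, x ≠ 0 := by
    by_contra h
    push Not at h
    exact hfix ((AddSubgroup.eq_bot_iff_forall _).2 h)
  have hX1 : plus V s ≠ ⊤ := by
    intro h
    rw [h, top_inf_eq] at hinf
    rw [hinf] at hy0
    exact hy0' hy0
  have hY1 : minus V s ≠ ⊤ := by
    intro h
    rw [h, inf_top_eq] at hinf
    rw [hinf] at hx0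
    exact hx0' hx0
  obtain ⟨x, hx, -, n1, a1, h1, h2, h3⟩ := rel IH hP hV ⊤ (plus V s) (fun g _ => hplus g) hX1
    ⟨x0, hx0, hx0'⟩
  obtain ⟨y, hy, -, n2, a2, h4, h5, h6⟩ := rel IH hP hV (fx ⊤ (plus V s)) (minus V s)
    (fun g _ => hminus g) hY1 ⟨y0, hy0, hy0'⟩
  have hbot : fx (fx (⊤ : Subgroup P) (plus V s)) (minus V s) = ⊥ := by
    rw [eq_bot_iff]
    rintro g ⟨⟨-, h7⟩, h8⟩
    refine Subgroup.mem_bot.2 (hf g fun v => ?_)
    obtain ⟨x, hx, y, hy, rfl⟩ := exists_dec hV hs v
    rw [smul_add, h7 x hx, h8 y hy]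
  rw [hbot, Subgroup.card_bot, one_mul] at h4 h5
  rw [Subgroup.card_top, h4, ← pow_add] at h1
  refine ⟨x + y, n1 + n2, a1 + a2, by rw [h1, add_comm], ?_, h3.add h6⟩
  have hle : fx (⊤ : Subgroup P) (plus V s) ≤ ⊤ ⊓ stabilizer P x := fx_le_stab _ hx
  refine card_count hle ?_ h2 ?_
  · intro g hg
    exact ⟨Subgroup.mem_top g, (comp_of_fix hinf (hplus g) (hminus g) hx hy hg).1⟩
  · refine le_trans (Subgroup.card_le_of_le ?_) h5
    intro g hg
    exact ⟨hg.1, (comp_of_fix hinf (hplus g) (hminus g) hx hy hg.2).2⟩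

end reducible

/-! ### Normal four-subgroups -/

section imprimitive

variable {P V : Type u} [Group P] [AddCommGroup V] [DistribMulAction P V]

/-- the data of a noncentral involution `a` of a normal four-subgroup `⟨a, z⟩`, `z` acting as `-1` -/
structure Four (P V : Type u) [Group P] [AddCommGroup V] [DistribMulAction P V] (a z t : P) :
    Prop where
  odd : ¬ 2 ∣ Nat.card V
  faith : Faith P V
  aa : a * a = 1
  neg : ∀ v : V, z • v = -v
  cj : ∀ g, g * a = a * g ∨ g * a = a * z * g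
  tt : t * a = a * z * t
  ha : ∃ x ∈ plus V a, x ≠ 0
  ha' : ∃ x ∈ minus V a, x ≠ 0

variable {a z t : P}

/-- the stabilizer of the blocks -/
def P0 (a : P) : Subgroup P := Subgroup.centralizer ({a} : Set P)

theorem mem_P0 {g : P} : g ∈ P0 a ↔ g * a = a * g := Subgroup.mem_centralizer_singleton_iff

theorem plus_of_mem {g : P} (hg : g ∈ P0 a) : ∀ x ∈ plus V a, g • x ∈ plus V a := by
  intro x hx
  show a • g • x = g • x
  rw [← mul_smul, ← mem_P0.1 hg, mul_smul, show a • x = x from hx]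

theorem minus_of_mem {g : P} (hg : g ∈ P0 a) : ∀ x ∈ minus V a, g • x ∈ minus V a := by
  intro x hx
  show a • g • x = -(g • x)
  rw [← mul_smul, ← mem_P0.1 hg, mul_smul, show a • x = -x from hx, smul_neg]

namespace Four

theorem eq_neg (h : Four P V a z t) {g : P} (hg : g ∉ P0 a) (v : V) :
    g • a • v = -(a • g • v) := by
  have h1 : g * a = a * z * g := (h.cj g).resolve_left fun h' => hg (mem_P0.2 h')
  rw [← mul_smul, h1, mul_assoc, mul_smul, mul_smul, h.neg, smul_neg]

theorem plus_minus (h : Four P V a z t) {g : P} (hg : g ∉ P0 a) :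
    ∀ x ∈ plus V a, g • x ∈ minus V a := by
  intro x hx
  have h1 := h.eq_neg hg x
  rw [show a • x = x from hx] at h1
  show a • g • x = -(g • x)
  rw [eq_comm, neg_eq_iff_eq_neg]
  exact h1

theorem minus_plus (h : Four P V a z t) {g : P} (hg : g ∉ P0 a) :
    ∀ x ∈ minus V a, g • x ∈ plus V a := by
  intro x hx
  have h1 := h.eq_neg hg x
  rw [show a • x = -x from hx, smul_neg] at h1
  show a • g • x = g • x
  exact (neg_injective h1).symm

theorem inf (h : Four P V a z t) : plus V a ⊓ minus V a = ⊥ := plus_inf_minus h.odd a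

theorem dec (h : Four P V a z t) (v : V) : ∃ x ∈ plus V a, ∃ y ∈ minus V a, v = x + y :=
  exists_dec h.odd h.aa v

theorem ne_t (h : Four P V a z t) : t ∉ P0 a := by
  intro ht
  have h1 := mem_P0.1 ht
  rw [h.tt, mul_assoc] at h1
  have h2 : z * t = t := mul_left_cancel h1
  have h3 : z = 1 := by simpa using h2
  obtain ⟨x, hx, hx0⟩ := h.ha
  have h4 := h.neg x
  rw [h3, one_smul] at h4
  exact hx0 (eq_zero_of_eq_neg h.odd h4)

/-- products of two elements outside are inside -/
theorem mul_mem (h : Four P V a z t) {g k : P} (hg : g ∉ P0 a) (hk : k ∉ P0 a) :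
    g * k ∈ P0 a := by
  rw [mem_P0]
  have h1 : ∀ v : V, (g * k * a) • v = (a * (g * k)) • v := by
    intro v
    rw [mul_smul, mul_smul, h.eq_neg hk, smul_neg, h.eq_neg hg, neg_neg, mul_smul, mul_smul]
  have h2 : (a * (g * k))⁻¹ * (g * k * a) = 1 := by
    apply h.faith
    intro v
    rw [mul_smul, h1, inv_smul_smul]
  exact (inv_mul_eq_one.1 h2).symm

theorem index (h : Four P V a z t) : (P0 a).index = 2 := by
  rw [Subgroup.index_eq_two_iff]
  refine ⟨t, fun b => ?_⟩
  by_cases hb : b ∈ P0 a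
  · refine Or.inr ⟨hb, fun h1 => h.ne_t ?_⟩
    exact ((P0 a).mul_mem_cancel_left hb).1 h1
  · exact Or.inl ⟨h.mul_mem hb h.ne_t, hb⟩

theorem a_mem (_h : Four P V a z t) : a ∈ fx (P0 a) (plus V a) :=
  ⟨mem_P0.2 rfl, fun _ hx => hx⟩

theorem a_ne (h : Four P V a z t) : a ≠ 1 := by
  rintro rfl
  obtain ⟨x, hx, hx0⟩ := h.ha'
  have h1 : (1 : P) • x = -x := hx
  rw [one_smul] at h1
  exact hx0 (eq_zero_of_eq_neg h.odd h1)

theorem fx_bot (h : Four P V a z t) : fx (fx (P0 a) (plus V a)) (minus V a) = ⊥ := by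
  rw [eq_bot_iff]
  rintro g ⟨⟨-, h7⟩, h8⟩
  refine Subgroup.mem_bot.2 (h.faith g fun v => ?_)
  obtain ⟨x, hx, y, hy, rfl⟩ := h.dec v
  rw [smul_add, h7 x hx, h8 y hy]

theorem plus_ne_top (h : Four P V a z t) : plus V a ≠ ⊤ := by
  intro h1
  obtain ⟨x, hx, hx0⟩ := h.ha'
  have h2 := h.inf
  rw [h1, top_inf_eq] at h2
  rw [h2] at hx
  exact hx0 hx

theorem minus_ne_top (h : Four P V a z t) : minus V a ≠ ⊤ := by
  intro h1
  obtain ⟨x, hx, hx0⟩ := h.ha
  have h2 := h.inf
  rw [h1, inf_top_eq] at h2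
  rw [h2] at hx
  exact hx0 hx

/-- the conjugate of `C(V₁)` is `C(V₂)` -/
theorem conj_mem (h : Four P V a z t) {g : P} (hg : g ∈ fx (P0 a) (plus V a)) :
    t * g * t⁻¹ ∈ fx (P0 a) (minus V a) := by
  have hti : t⁻¹ ∉ P0 a := fun h1 => h.ne_t (by simpa using (P0 a).inv_mem h1)
  refine ⟨?_, fun y hy => ?_⟩
  · by_contra h1
    have h2 : t * g ∈ P0 a := by
      have := h.mul_mem h1 h.ne_t
      simpa using this
    exact h.ne_t (((P0 a).mul_mem_cancel_right hg.1).1 h2)
  · rw [mul_smul, mul_smul, hg.2 _ (h.minus_plus hti y hy), smul_inv_smul]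

theorem card_sq [Finite P] (h : Four P V a z t) :
    Nat.card (fx (P0 a) (plus V a)) * Nat.card (fx (P0 a) (plus V a)) ≤ Nat.card (P0 a) := by
  rw [← Nat.card_prod]
  let f : ↥(fx (P0 a) (plus V a)) × ↥(fx (P0 a) (plus V a)) → ↥(P0 a) :=
    fun k => ⟨k.1 * (t * k.2 * t⁻¹), (P0 a).mul_mem k.1.2.1 (h.conj_mem k.2.2).1⟩
  refine Nat.card_le_card_of_injective f ?_
  rintro ⟨k, l⟩ ⟨k', l'⟩ he
  have h1 : (k : P) * (t * l * t⁻¹) = k' * (t * l' * t⁻¹) := congrArg Subtype.val he
  have h2 : (k' : P)⁻¹ * k = t * (l' * (l : P)⁻¹) * t⁻¹ := by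
    have h3 : (k : P) = k' * (t * l' * t⁻¹) * (t * l * t⁻¹)⁻¹ := eq_mul_inv_of_mul_eq h1
    rw [h3]
    group
  have h4 : (k' : P)⁻¹ * k ∈ fx (P0 a) (plus V a) :=
    (fx (P0 a) (plus V a)).mul_mem ((fx (P0 a) (plus V a)).inv_mem k'.2) k.2
  have h5 : (k' : P)⁻¹ * k ∈ fx (P0 a) (minus V a) := by
    rw [h2]
    exact h.conj_mem ((fx (P0 a) (plus V a)).mul_mem l'.2 ((fx (P0 a) (plus V a)).inv_mem l.2))
  have h6 : (k' : P)⁻¹ * k = 1 := by
    have h7 : (k' : P)⁻¹ * k ∈ fx (fx (P0 a) (plus V a)) (minus V a) := ⟨h4, h5.2⟩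
    rw [h.fx_bot] at h7
    exact Subgroup.mem_bot.1 h7
  have h8 : k = k' := Subtype.ext (inv_mul_eq_one.1 h6).symm
  rw [h6] at h2
  have h9 : l = l' := by
    apply Subtype.ext
    have h10 : (l' : P) * (l : P)⁻¹ = 1 := by
      have h11 : t⁻¹ * (t * (l' * (l : P)⁻¹) * t⁻¹) * t = t⁻¹ * 1 * t := by rw [← h2]
      simpa [mul_assoc] using h11
    exact (mul_inv_eq_one.1 h10).symm
  rw [h8, h9]

/-- the stabilizer of `x + y` -/
theorem comb [Finite P] (h : Four P V a z t) {x y : V} (hx : x ∈ plus V a) (hy : y ∈ minus V a)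
    {m n : ℕ} (h1 : Nat.card ↥(P0 a ⊓ stabilizer P x) ≤ Nat.card (fx (P0 a) (plus V a)) * 2 ^ m)
    (h2 : Nat.card ↥(fx (P0 a) (plus V a) ⊓ stabilizer P y) ≤ 2 ^ n) :
    Nat.card ↥(P0 a ⊓ stabilizer P (x + y)) ≤ 2 ^ (m + n) := by
  have hle : fx (P0 a) (plus V a) ≤ P0 a ⊓ stabilizer P x := fx_le_stab _ hx
  refine card_count hle ?_ h1 (le_trans (Subgroup.card_le_of_le ?_) h2)
  · intro g hg
    exact ⟨hg.1, (comp_of_fix h.inf (plus_of_mem hg.1) (minus_of_mem hg.1) hx hy hg.2).1⟩
  · rintro g ⟨hg1, hg2⟩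
    exact ⟨hg1, (comp_of_fix h.inf (plus_of_mem hg1.1) (minus_of_mem hg1.1) hx hy hg2.2).2⟩

theorem comb_one [Finite P] (h : Four P V a z t) {x y : V} (hx : x ∈ plus V a)
    (hy : y ∈ minus V a) {m n : ℕ}
    (h1 : Nat.card ↥(P0 a ⊓ stabilizer P x) ≤ Nat.card (fx (P0 a) (plus V a)) * 2 ^ m)
    (h2 : Nat.card ↥(fx (P0 a) (plus V a) ⊓ stabilizer P y) ≤ 2 ^ n) :
    Nat.card (stabilizer P (x + y)) ≤ 2 ^ (m + n + 1) := by
  have h3 := h.comb hx hy h1 h2
  have h4 : Nat.card ↥(P0 a ⊓ stabilizer P (x + y)) * (P0 a).relIndex (stabilizer P (x + y)) =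
      Nat.card (stabilizer P (x + y)) := by
    have := Subgroup.relIndex_mul_relIndex ⊥ (P0 a ⊓ stabilizer P (x + y))
      (stabilizer P (x + y)) bot_le inf_le_right
    rwa [Subgroup.relIndex_bot_left, Subgroup.relIndex_bot_left, Subgroup.inf_relIndex_right]
      at this
  have h5 : (P0 a).relIndex (stabilizer P (x + y)) ≤ 2 := by
    have h6 : (P0 a).relIndex (stabilizer P (x + y)) ≤ (P0 a).relIndex ⊤ :=
      Subgroup.relIndex_le_of_le_right le_top (Subgroup.FiniteIndex.index_ne_zero)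
    rwa [Subgroup.relIndex_top_right, h.index] at h6
  rw [← h4, pow_succ]
  exact Nat.mul_le_mul h3 h5

theorem comb_zero [Finite P] (h : Four P V a z t) {x y : V} (hx : x ∈ plus V a)
    (hy : y ∈ minus V a) (hxy : ∀ g : P, g • x ≠ y) {m n : ℕ}
    (h1 : Nat.card ↥(P0 a ⊓ stabilizer P x) ≤ Nat.card (fx (P0 a) (plus V a)) * 2 ^ m)
    (h2 : Nat.card ↥(fx (P0 a) (plus V a) ⊓ stabilizer P y) ≤ 2 ^ n) :
    Nat.card (stabilizer P (x + y)) ≤ 2 ^ (m + n) := by
  have h3 := h.comb hx hy h1 h2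
  refine le_trans (Subgroup.card_le_of_le ?_) h3
  intro g hg
  refine ⟨?_, hg⟩
  by_contra hg0
  have h4 : g • (x + y) = x + y := hg
  rw [smul_add] at h4
  have h5 : g • x - y = -(g • y - x) := by
    have h6 : g • x - y + (g • y - x) = 0 := by
      rw [show g • x - y + (g • y - x) = (g • x + g • y) - (x + y) by abel, h4, sub_self]
    exact eq_neg_of_add_eq_zero_left h6
  have h6 : g • x - y ∈ plus V a ⊓ minus V a := by
    refine ⟨?_, (minus V a).sub_mem (h.plus_minus hg0 x hx) hy⟩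
    rw [h5]
    exact (plus V a).neg_mem ((plus V a).sub_mem (h.minus_plus hg0 y hy) hx)
  rw [h.inf, AddSubgroup.mem_bot] at h6
  exact hxy g (sub_eq_zero.1 h6)

end Four

/-- the numbers of an induced pair -/
theorem star_ind {n1 a1 n2 a2 : ℕ} (h1 : Star n1 a1) (h2 : 15 * a2 + 8 ≤ 7 * n2) (h : n2 ≤ n1) :
    Star (n1 + n2 + 1) (a1 + a2 + 1) := by
  unfold Star at *
  rcases h1 with h1 | ⟨h1, h1'⟩ | ⟨h1, h1'⟩
  · omega
  · omega
  · have h3 : a2 = 0 := by omega
    have h4 : 2 ≤ n2 := by omega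
    omega

theorem imprim_step [Finite P] [Finite V] (IH : IHyp.{u} (Nat.card V)) (hP : IsPGroup 2 P)
    (h : Four P V a z t) : Claim P V := by
  have hf2 : Fact (Nat.Prime 2) := ⟨Nat.prime_two⟩
  have hV := h.odd
  have hpos : ∀ S : Subgroup P, 0 < Nat.card S := fun S => Nat.card_pos
  obtain ⟨x, hx, hx0, n1, a1, h1, h2, h3⟩ := rel IH hP hV (P0 a) (plus V a)
    (fun g hg => plus_of_mem hg) h.plus_ne_top h.ha
  obtain ⟨y, hy, hy0, n2, a2, h4, h5, h6⟩ := rel IH hP hV (fx (P0 a) (plus V a)) (minus V a)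
    (fun g hg => minus_of_mem hg.1) h.minus_ne_top h.ha'
  rw [h.fx_bot, Subgroup.card_bot, one_mul] at h4 h5
  have hcP : Nat.card P = 2 ^ (n1 + n2 + 1) := by
    rw [← (P0 a).card_mul_index, h.index, h1, h4, pow_succ, pow_add]
    ring
  -- `n2 ≤ n1`
  have hn : n2 ≤ n1 := by
    have h7 := h.card_sq
    rw [h1, h4] at h7
    exact (Nat.pow_le_pow_iff_right (by norm_num)).1 (Nat.le_of_mul_le_mul_left h7 (by positivity))
  have hn2 : n2 ≠ 0 := by
    rintro rfl
    rw [pow_zero, Subgroup.card_eq_one] at h4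
    have h7 := h.a_mem
    rw [h4] at h7
    exact h.a_ne (Subgroup.mem_bot.1 h7)
  -- the transitive case
  have htrans : (∀ y' ∈ minus V a, y' ≠ 0 → ∃ g : P, g • x = y') →
      Nat.card (P0 a) = (Nat.card (plus V a) - 1) * Nat.card ↥(P0 a ⊓ stabilizer P x) ∧
      (((Nat.card (plus V a)).Prime ∧
          Nat.card ↥(P0 a ⊓ stabilizer P x) = Nat.card (fx (P0 a) (plus V a))) ∨
        (Nat.card (plus V a) = 9 ∧
          Nat.card ↥(P0 a ⊓ stabilizer P x) ≤ Nat.card (fx (P0 a) (plus V a)) * 2)) := by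
    intro hc
    refine rel_trans hP hV (P0 a) (plus V a) (fun g hg => plus_of_mem hg) hx hx0 ?_
    intro x' hx' hx0'
    obtain ⟨g, hg⟩ := hc (t • x') (h.plus_minus h.ne_t x' hx')
      (fun h7 => hx0' ((smul_eq_zero_iff_eq t).1 h7))
    have hg0 : g ∉ P0 a := by
      intro h7
      have h8 := plus_of_mem h7 x hx
      have h9 : g • x ∈ plus V a ⊓ minus V a := ⟨h8, hg ▸ h.plus_minus h.ne_t x' hx'⟩
      rw [h.inf, AddSubgroup.mem_bot] at h9
      exact hx0 ((smul_eq_zero_iff_eq g).1 h9)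
    have hti : t⁻¹ ∉ P0 a := fun h1 => h.ne_t (by simpa using (P0 a).inv_mem h1)
    exact ⟨t⁻¹ * g, h.mul_mem hti hg0, by rw [mul_smul, hg, inv_smul_smul]⟩
  -- the order of the stabilizer of `x` in the case `|V₁| = 9`
  have hnine : Nat.card (P0 a) = (9 - 1) * Nat.card ↥(P0 a ⊓ stabilizer P x) →
      Nat.card ↥(P0 a ⊓ stabilizer P x) ≤ Nat.card (fx (P0 a) (plus V a)) * 2 →
      (n1 = 3 ∧ Nat.card ↥(P0 a ⊓ stabilizer P x) = Nat.card (fx (P0 a) (plus V a))) ∨
      (n1 = 4 ∧ Nat.card ↥(P0 a ⊓ stabilizer P x) = Nat.card (fx (P0 a) (plus V a)) * 2) := by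
    intro h7 h8
    obtain ⟨k, hk⟩ := IsPGroup.iff_card.1 (hP.to_subgroup (P0 a ⊓ stabilizer P x))
    rw [h1, h4, hk, ← pow_add, show 9 - 1 = 2 ^ 3 by norm_num, ← pow_add] at h7
    have h9 : n2 + n1 = 3 + k := Nat.pow_right_injective (le_refl 2) h7
    rw [h4, hk, ← pow_succ] at h8
    have h10 : k ≤ n2 + 1 := (Nat.pow_le_pow_iff_right (by norm_num)).1 h8
    have h11 : n2 ≤ k := by
      have h12 : Nat.card (fx (P0 a) (plus V a)) ≤ Nat.card ↥(P0 a ⊓ stabilizer P x) :=
        Subgroup.card_le_of_le (fx_le_stab _ hx)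
      rw [h4, hk] at h12
      exact (Nat.pow_le_pow_iff_right (by norm_num)).1 h12
    rcases (by omega : k = n2 ∨ k = n2 + 1) with h13 | h13
    · left
      exact ⟨by omega, by rw [hk, h4, h13]⟩
    · right
      exact ⟨by omega, by rw [hk, h4, h13, pow_succ]⟩
  rcases h6 with h6 | ⟨h6, h6'⟩ | ⟨h6, h6'⟩
  · exact ⟨x + y, _, _, hcP, h.comb_one hx hy h2 h5, star_ind h3 h6 hn⟩
  · -- `|K| = 2`
    have hn2' : n2 = 1 := by omega
    subst hn2'
    have hK : ∀ y' ∈ minus V a, y' ≠ 0 →
        Nat.card ↥(fx (P0 a) (plus V a) ⊓ stabilizer P y') ≤ 2 ^ 0 := by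
      intro y' hy' hy0'
      have h7 : fx (P0 a) (plus V a) ⊓ stabilizer P y' < fx (P0 a) (plus V a) := by
        refine lt_of_le_of_ne inf_le_left fun h8 => ?_
        have h9 : a ∈ fx (P0 a) (plus V a) ⊓ stabilizer P y' := by
          rw [h8]
          exact h.a_mem
        have h10 : a • y' = y' := h9.2
        have h11 : a • y' = -y' := hy'
        exact hy0' (eq_zero_of_eq_neg hV (h10.symm.trans h11))
      have h8 : Nat.card ↥(fx (P0 a) (plus V a) ⊓ stabilizer P y') <
          Nat.card (fx (P0 a) (plus V a)) := Set.ncard_lt_ncard h7 (Set.toFinite _)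
      rw [h4] at h8
      simp only [pow_one, pow_zero] at h8 ⊢
      omega
    by_cases hc : ∀ y' ∈ minus V a, y' ≠ 0 → ∃ g : P, g • x = y'
    · obtain ⟨h7, h8⟩ := htrans hc
      rcases h8 with ⟨h8, h9⟩ | ⟨h8, h9⟩
      · -- prime order
        refine ⟨x + y, _, _, hcP, h.comb_one (m := 0) (n := 0) hx hy (by rw [h9, pow_zero, mul_one])
          (hK y hy hy0), ?_⟩
        have h10 : n1 ≠ 0 := by omega
        unfold Star
        omega
      · rw [h8] at h7
        rcases hnine h7 h9 with ⟨h10, h11⟩ | ⟨h10, h11⟩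
        · refine ⟨x + y, _, _, hcP, h.comb_one (m := 0) (n := 0) hx hy
            (by rw [h11, pow_zero, mul_one]) (hK y hy hy0), ?_⟩
          unfold Star
          omega
        · refine ⟨x + y, _, _, hcP, h.comb_one (m := 1) (n := 0) hx hy
            (by rw [h11, pow_one]) (hK y hy hy0), ?_⟩
          unfold Star
          omega
    · push Not at hc
      obtain ⟨y', hy', hy0', hxy⟩ := hc
      refine ⟨x + y', _, _, hcP, h.comb_zero (n := 0) hx hy' hxy h2 (hK y' hy' hy0'), ?_⟩
      unfold Star at *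
      omega
  · -- `|K| = 8`
    subst h6
    by_cases hreg : ∃ y' ∈ minus V a, fx (P0 a) (plus V a) ⊓ stabilizer P y' = ⊥
    · obtain ⟨y', hy', hr⟩ := hreg
      refine ⟨x + y', _, _, hcP, h.comb_one (n := 0) hx hy' h2 (by
        rw [hr, Subgroup.card_bot, pow_zero]), ?_⟩
      exact star_ind (a2 := 0) h3 (by omega) hn
    · -- `K` is nonabelian
      have hnc : ∃ g ∈ fx (P0 a) (plus V a), ∃ k ∈ fx (P0 a) (plus V a), g * k ≠ k * g := by
        by_contra hc
        push Not at hc
        exact hreg (rel_regular hP hV _ (minus V a) (fun g hg => minus_of_mem hg.1) hc h.fx_bot)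
      have hK : ∀ y' ∈ minus V a, y' ≠ 0 →
          Nat.card ↥(fx (P0 a) (plus V a) ⊓ stabilizer P y') ≤ 2 ^ 1 := by
        intro y' hy' hy0'
        by_contra hlt
        have ha : a ∉ fx (P0 a) (plus V a) ⊓ stabilizer P y' := by
          intro h9
          have h10 : a • y' = y' := h9.2
          have h11 : a • y' = -y' := hy'
          exact hy0' (eq_zero_of_eq_neg hV (h10.symm.trans h11))
        obtain ⟨C, hC⟩ : ∃ C, C = fx (P0 a) (plus V a) ⊓ stabilizer P y' := ⟨_, rfl⟩
        rw [← hC] at hlt ha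
        have hCK : C ≤ fx (P0 a) (plus V a) := hC ▸ inf_le_left
        have hC8 : Nat.card C < 8 := by
          have h7 : C < fx (P0 a) (plus V a) := lt_of_le_of_ne hCK fun h8 => ha (h8 ▸ h.a_mem)
          have h8 : Nat.card C < Nat.card (fx (P0 a) (plus V a)) :=
            Set.ncard_lt_ncard h7 (Set.toFinite _)
          rw [h4] at h8
          omega
        obtain ⟨k, hk⟩ := IsPGroup.iff_card.1 (hP.to_subgroup C)
        have hC4 : Nat.card C = 2 ^ 2 := by
          have h7 : k < 3 := (Nat.pow_lt_pow_iff_right (by norm_num : 1 < 2)).1 (by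
            rw [← hk]
            exact hC8)
          have h8 : 1 < k := (Nat.pow_lt_pow_iff_right (by norm_num : 1 < 2)).1 (by
            rw [← hk]
            omega)
          rw [hk, show k = 2 by omega]
        have hCc := IsPGroup.isMulCommutative_of_card_eq_prime_sq hC4
        -- `K = C ∪ aC`
        have hidx : C.relIndex (fx (P0 a) (plus V a)) = 2 := by
          have := Subgroup.relIndex_mul_relIndex ⊥ C (fx (P0 a) (plus V a)) bot_le hCK
          rw [Subgroup.relIndex_bot_left, Subgroup.relIndex_bot_left, h4, hC4] at this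
          omega
        have hdec : ∀ g ∈ fx (P0 a) (plus V a), g ∈ C ∨ a * g ∈ C := by
          intro g hg
          by_contra h7
          push Not at h7
          have h8 : ((C.subgroupOf (fx (P0 a) (plus V a)))).index = 2 := hidx
          have h9 := (Subgroup.mul_mem_iff_of_index_two h8 (a := ⟨a, h.a_mem⟩) (b := ⟨g, hg⟩))
          rw [Subgroup.mem_subgroupOf, Subgroup.mem_subgroupOf, Subgroup.mem_subgroupOf] at h9
          exact h7.2 (h9.2 ⟨fun h' => absurd h' ha, fun h' => absurd h' h7.1⟩)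
        obtain ⟨g, hg, k', hk', hne⟩ := hnc
        apply hne
        have hag : ∀ g ∈ fx (P0 a) (plus V a), g * a = a * g := fun g hg => mem_P0.1 hg.1
        have hcom : ∀ c ∈ C, ∀ d ∈ C, c * d = d * c := fun c hc d hd =>
          congrArg Subtype.val (hCc.is_comm.comm ⟨c, hc⟩ ⟨d, hd⟩)
        have hw : ∀ g ∈ fx (P0 a) (plus V a), ∃ c ∈ C, g = c ∨ g = a * c := by
          intro g hg
          rcases hdec g hg with h7 | h7
          · exact ⟨g, h7, Or.inl rfl⟩
          · exact ⟨a * g, h7, Or.inr (by rw [← mul_assoc, h.aa, one_mul])⟩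
        obtain ⟨c, hc, hgc⟩ := hw g hg
        obtain ⟨d, hd, hkd⟩ := hw k' hk'
        have hac : a * c = c * a := (hag c (hCK hc)).symm
        have had : a * d = d * a := (hag d (hCK hd)).symm
        have hcd : Commute c d := hcom c hc d hd
        have hac' : Commute a c := hac
        have had' : Commute a d := had
        rcases hgc with rfl | rfl <;> rcases hkd with rfl | rfl
        · exact hcd
        · exact (hac'.symm.mul_right hcd).eq
        · exact (had'.mul_left hcd).eq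
        · exact (((Commute.refl a).mul_right had').mul_left
            (hac'.symm.mul_right hcd)).eq
      by_cases hc : ∀ y' ∈ minus V a, y' ≠ 0 → ∃ g : P, g • x = y'
      · obtain ⟨h7, h8⟩ := htrans hc
        rcases h8 with ⟨h8, h9⟩ | ⟨h8, h9⟩
        · -- prime order: `K` has a regular orbit
          exfalso
          apply hreg
          refine ⟨y, hy, ?_⟩
          rw [eq_bot_iff]
          rintro g ⟨hg1, hg2⟩
          have hti : t⁻¹ ∉ P0 a := fun h1 => h.ne_t (by simpa using (P0 a).inv_mem h1)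
          have h10 : ∀ y' ∈ minus V a, g • y' = y' := by
            intro y' hy'
            have hfp : Fact (Nat.card (plus V a)).Prime := ⟨h8⟩
            have h12 : (⟨t⁻¹ • y, h.minus_plus hti y hy⟩ : plus V a) ≠ 0 := fun h' =>
              hy0 ((smul_eq_zero_iff_eq t⁻¹).1 (congrArg Subtype.val h'))
            have h13 : (⟨t⁻¹ • y', h.minus_plus hti y' hy'⟩ : plus V a) ∈
                AddSubgroup.zmultiples (⟨t⁻¹ • y, h.minus_plus hti y hy⟩ : plus V a) := by
              rw [zmultiples_eq_top_of_prime_card (p := Nat.card (plus V a)) rfl h12]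
              exact AddSubgroup.mem_top _
            obtain ⟨k, hk⟩ := AddSubgroup.mem_zmultiples_iff.1 h13
            have h14 : k • (t⁻¹ • y) = t⁻¹ • y' := congrArg Subtype.val hk
            have h15 : k • y = y' := by
              rw [← smul_comm t⁻¹ k y] at h14
              exact MulAction.injective t⁻¹ h14
            rw [← h15, smul_comm, show g • y = y from hg2]
          have h11 : g ∈ fx (fx (P0 a) (plus V a)) (minus V a) := ⟨hg1, h10⟩
          rwa [h.fx_bot] at h11
        · rw [h8] at h7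
          rcases hnine h7 h9 with ⟨h10, h11⟩ | ⟨h10, h11⟩
          · exfalso
            apply hreg
            refine ⟨t • x, h.plus_minus h.ne_t x hx, ?_⟩
            have hti : t⁻¹ ∉ P0 a := fun h1 => h.ne_t (by simpa using (P0 a).inv_mem h1)
            have h12 : fx (P0 a) (plus V a) = P0 a ⊓ stabilizer P x :=
              Subgroup.eq_of_le_of_card_ge (fx_le_stab _ hx) (by rw [h11])
            rw [eq_bot_iff]
            rintro g ⟨hg1, hg2⟩
            have hg3 : g • t • x = t • x := hg2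
            have h13 : t⁻¹ * g * t ∈ P0 a ⊓ stabilizer P x := by
              refine ⟨?_, ?_⟩
              · refine h.mul_mem (fun h14 => hti ?_) h.ne_t
                exact ((P0 a).mul_mem_cancel_right hg1.1).1 h14
              · show (t⁻¹ * g * t) • x = x
                rw [mul_smul, mul_smul, hg3, inv_smul_smul]
            rw [← h12] at h13
            have h14 := h.conj_mem h13
            have h15 : t * (t⁻¹ * g * t) * t⁻¹ = g := by group
            rw [h15] at h14
            have h16 : g ∈ fx (fx (P0 a) (plus V a)) (minus V a) := ⟨hg1, h14.2⟩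
            rwa [h.fx_bot] at h16
          · refine ⟨x + y, _, _, hcP, h.comb_one (m := 1) (n := 1) hx hy
              (by rw [h11, pow_one]) (hK y hy hy0), ?_⟩
            unfold Star
            omega
      · push Not at hc
        obtain ⟨y', hy', hy0', hxy⟩ := hc
        refine ⟨x + y', _, _, hcP, h.comb_zero hx hy' hxy h2 (hK y' hy' hy0'), ?_⟩
        unfold Star at *
        omega

end imprimitive

/-! ### No normal four-subgroups -/

section main

variable {P V : Type u} [Group P] [Finite P] [AddCommGroup V] [Finite V] [DistribMulAction P V]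

omit [Finite V] in
/-- all normal abelian subgroups cyclic: stabilizers have order at most two -/
theorem card_stab_le_two (hP : IsPGroup 2 P)
    (hneg : ∀ s : P, s * s = 1 → s ≠ 1 → (∀ g, s * g = g * s) → plus V s = ⊥)
    (hcyc : ∀ A : Subgroup P, A.Normal → IsMulCommutative A → IsCyclic A) {v : V} (hv : v ≠ 0) :
    Nat.card (stabilizer P v) ≤ 2 := by
  have hf2 : Fact (Nat.Prime 2) := ⟨Nat.prime_two⟩
  obtain ⟨A, hA, hAn, hAi⟩ : ∃ A : Subgroup P, IsCyclic A ∧ A.Normal ∧ A.index ≤ 2 := by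
    rcases Cfsg.Agent.Classification.NormalCyclic.exists_cyclic_index_two hP hcyc with h | h
    · refine ⟨⊤, ?_, inferInstance, by rw [Subgroup.index_top]; omega⟩
      exact isCyclic_of_surjective (Subgroup.topEquiv (G := P)).symm
        (Subgroup.topEquiv (G := P)).symm.surjective
    · obtain ⟨A, hA, hi⟩ := h
      exact ⟨A, hA, Subgroup.normal_of_index_eq_two hi, hi.le⟩
  have hbot : stabilizer P v ⊓ A = ⊥ := by
    by_contra hne
    have h2 : 2 ∣ Nat.card ↥(stabilizer P v ⊓ A) := by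
      obtain ⟨n, hn⟩ := IsPGroup.iff_card.1 (hP.to_subgroup (stabilizer P v ⊓ A))
      rcases Nat.eq_zero_or_pos n with h0 | h0
      · exfalso
        apply hne
        rw [h0, pow_zero] at hn
        exact Subgroup.card_eq_one.1 hn
      · rw [hn]
        exact dvd_pow_self 2 h0.ne'
    obtain ⟨s, hs⟩ := exists_prime_orderOf_dvd_card' 2 h2
    have hso : orderOf (s : P) = 2 := by rw [Subgroup.orderOf_coe, hs]
    have hs1 : (s : P) * s = 1 := by
      have h3 := pow_orderOf_eq_one (s : P)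
      rwa [hso, pow_two] at h3
    have hsne : (s : P) ≠ 1 := by
      intro h
      rw [h, orderOf_one] at hso
      omega
    have hcen : ∀ g : P, (s : P) * g = g * s := by
      intro g
      -- `A` has only one involution
      have h3 : g * s * g⁻¹ ∈ A := hAn.conj_mem _ s.2.2 g
      have h4 : (⟨g * s * g⁻¹, h3⟩ : A) = ⟨s, s.2.2⟩ := by
        by_contra hne'
        classical
        have := Fintype.ofFinite A
        have h5 := IsCyclic.card_pow_eq_one_le (α := A) (n := 2) (by norm_num)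
        have h6 : ({1, ⟨s, s.2.2⟩, ⟨g * s * g⁻¹, h3⟩} : Finset A) ⊆
            Finset.univ.filter fun x : A => x ^ 2 = 1 := by
          intro y hy
          simp only [Finset.mem_insert, Finset.mem_singleton] at hy
          rw [Finset.mem_filter]
          refine ⟨Finset.mem_univ _, ?_⟩
          rcases hy with rfl | rfl | rfl
          · exact one_pow 2
          · rw [pow_two]
            exact Subtype.ext hs1
          · rw [pow_two]
            apply Subtype.ext
            show g * s * g⁻¹ * (g * s * g⁻¹) = 1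
            rw [show g * (s : P) * g⁻¹ * (g * s * g⁻¹) = g * (s * s) * g⁻¹ by group, hs1, mul_one,
              mul_inv_cancel]
        have h7 : ({1, ⟨s, s.2.2⟩, ⟨g * s * g⁻¹, h3⟩} : Finset A).card = 3 := by
          rw [Finset.card_eq_three]
          refine ⟨_, _, _, ?_, ?_, ?_, rfl⟩
          · intro h
            exact hsne (congrArg Subtype.val h).symm
          · intro h
            exact hsne (conj_eq_one_iff.1 (congrArg Subtype.val h).symm)
          · exact Ne.symm hne'
        have h8 := Finset.card_le_card h6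
        rw [h7] at h8
        omega
      have h5 : g * s * g⁻¹ = s := congrArg Subtype.val h4
      exact (mul_inv_eq_iff_eq_mul.1 h5).symm
    have h3 := hneg s hs1 hsne hcen
    have h4 : v ∈ plus V (s : P) := s.2.1
    rw [h3, AddSubgroup.mem_bot] at h4
    exact hv h4
  have h1 : Nat.card (stabilizer P v) = A.relIndex (stabilizer P v) := by
    have := Subgroup.relIndex_mul_relIndex ⊥ (A ⊓ stabilizer P v) (stabilizer P v) bot_le
      inf_le_right
    rw [Subgroup.relIndex_bot_left, Subgroup.relIndex_bot_left, Subgroup.inf_relIndex_right,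
      inf_comm, hbot, Subgroup.card_bot, one_mul] at this
    exact this.symm
  have h2 : A.relIndex (stabilizer P v) ≤ A.relIndex ⊤ :=
    Subgroup.relIndex_le_of_le_right le_top (Subgroup.FiniteIndex.index_ne_zero)
  rw [Subgroup.relIndex_top_right] at h2
  omega

omit [Finite P] [Finite V] in
/-- groups of order at most `4` are commutative -/
theorem comm_of_card {n : ℕ} (h : Nat.card P = 2 ^ n) (hn : n ≤ 2) : ∀ a b : P, a * b = b * a := by
  have hf2 : Fact (Nat.Prime 2) := ⟨Nat.prime_two⟩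
  rcases (by omega : n = 0 ∨ n = 1 ∨ n = 2) with rfl | rfl | rfl
  · rw [pow_zero] at h
    have := (Nat.card_eq_one_iff_unique.1 h).1
    exact fun a b => Subsingleton.elim _ _
  · rw [pow_one] at h
    have := isCyclic_of_prime_card (p := 2) h
    intro a b
    obtain ⟨g, hg⟩ := this.exists_generator
    obtain ⟨m, rfl⟩ := Subgroup.mem_zpowers_iff.1 (hg a)
    obtain ⟨n, rfl⟩ := Subgroup.mem_zpowers_iff.1 (hg b)
    exact zpow_mul_comm g m n
  · exact (IsPGroup.isMulCommutative_of_card_eq_prime_sq h).is_comm.comm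

theorem claim_of (IH : IHyp.{u} (Nat.card V)) (hP : IsPGroup 2 P) (hV : ¬ 2 ∣ Nat.card V)
    (hf : Faith P V) : Claim P V := by
  have hf2 : Fact (Nat.Prime 2) := ⟨Nat.prime_two⟩
  obtain ⟨n, hn⟩ := IsPGroup.iff_card.1 hP
  by_cases hc : ∃ s : P, s * s = 1 ∧ s ≠ 1 ∧ (∀ g, s * g = g * s) ∧ plus V s ≠ ⊥
  · obtain ⟨s, h1, h2, h3, h4⟩ := hc
    exact red_step IH hP hV hf h1 h2 h3 h4
  push Not at hc
  by_cases hP1 : Nat.card P = 1
  · refine ⟨0, 0, 0, by rw [hP1, pow_zero], ?_, Or.inr (Or.inl ⟨by omega, rfl⟩)⟩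
    rw [pow_zero, ← hP1]
    exact Subgroup.card_le_card_group _
  -- `V ≠ 0`
  obtain ⟨v, hv⟩ : ∃ v : V, v ≠ 0 := by
    by_contra h
    push Not at h
    apply hP1
    rw [Nat.card_eq_one_iff_unique]
    refine ⟨⟨fun a b => ?_⟩, ⟨1⟩⟩
    rw [hf a fun v => by rw [h v, smul_zero], hf b fun v => by rw [h v, smul_zero]]
  by_cases hcyc : ∀ A : Subgroup P, A.Normal → IsMulCommutative A → IsCyclic A
  · have h2 := card_stab_le_two hP hc hcyc hv
    by_cases hn2 : n ≤ 2
    · obtain ⟨w, hw⟩ := exists_regular hP hV hf (comm_of_card hn hn2)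
      refine ⟨w, n, 0, hn, by rw [hw, Subgroup.card_bot, pow_zero], ?_⟩
      unfold Star
      omega
    · refine ⟨v, n, 1, hn, by rw [pow_one]; exact h2, ?_⟩
      unfold Star
      omega
  · push Not at hcyc
    obtain ⟨A, hA, hAc, hnc⟩ := hcyc
    have hA' : ∀ x ∈ A, ∀ y ∈ A, x * y = y * x := fun x hx y hy =>
      congrArg Subtype.val (hAc.is_comm.comm ⟨x, hx⟩ ⟨y, hy⟩)
    -- `Ω = Ω₁(A)`
    let Om : Subgroup P :=
      { carrier := {x | x ∈ A ∧ x * x = 1}
        one_mem' := ⟨A.one_mem, one_mul 1⟩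
        mul_mem' := fun {x y} hx hy => ⟨A.mul_mem hx.1 hy.1, by
          have hxy : Commute x y := hA' x hx.1 y hy.1
          rw [hxy.symm.mul_mul_mul_comm, hx.2, hy.2, one_mul]⟩
        inv_mem' := fun {x} hx => ⟨A.inv_mem hx.1, by
          rw [← mul_inv_rev, hx.2, inv_one]⟩ }
    have hOn : Om.Normal := ⟨fun x hx g => ⟨hA.conj_mem x hx.1 g, by
      rw [show g * x * g⁻¹ * (g * x * g⁻¹) = g * (x * x) * g⁻¹ by group, hx.2, mul_one,
        mul_inv_cancel]⟩⟩
    have hO4 : 2 ^ 2 ≤ Nat.card Om := by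
      by_contra hlt
      apply hnc
      let _ : CommGroup A := { (inferInstance : Group A) with mul_comm := hAc.is_comm.comm }
      have h1 : IsPGroup 2 A := hP.to_subgroup A
      refine Cfsg.Agent.Transfer.PGroupNormal.isCyclic_of_card_ker_pow_le h1 ?_
      have h2 : ((powMonoidHom 2 : A →* A).ker).map A.subtype = Om := by
        ext x
        constructor
        · rintro ⟨y, hy, rfl⟩
          refine ⟨y.2, ?_⟩
          have h3 : y ^ 2 = 1 := hy
          rw [pow_two] at h3
          exact congrArg Subtype.val h3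
        · rintro ⟨hx1, hx2⟩
          refine ⟨⟨x, hx1⟩, ?_, rfl⟩
          show (⟨x, hx1⟩ : A) ^ 2 = 1
          rw [pow_two]
          exact Subtype.ext hx2
      have h3 : Nat.card (powMonoidHom 2 : A →* A).ker = Nat.card Om := by
        rw [← h2]
        exact Nat.card_congr (Subgroup.equivMapOfInjective _ _ A.subtype_injective).toEquiv
      rw [h3]
      obtain ⟨m, hm⟩ := IsPGroup.iff_card.1 (hP.to_subgroup Om)
      rw [hm] at hlt ⊢
      have h4 : m < 2 := (Nat.pow_lt_pow_iff_right (by norm_num : 1 < 2)).1 (not_le.1 hlt)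
      calc 2 ^ m ≤ 2 ^ 1 := Nat.pow_le_pow_right (by norm_num) (by omega)
        _ = 2 := pow_one 2
    obtain ⟨E, hEn, hEO, hE4⟩ :=
      Cfsg.Agent.Transfer.PGroupNormal.exists_normal_le_card hP hOn hO4
    have hEb : E ≠ ⊥ := by
      rintro rfl
      rw [Subgroup.card_bot] at hE4
      norm_num at hE4
    obtain ⟨z, hzE, hzc, hzo⟩ :=
      Cfsg.Agent.Transfer.PGroupNormal.exists_mem_inf_center_orderOf hP E hEb
    have hzg : ∀ g : P, z * g = g * z := fun g => (Subgroup.mem_center_iff.1 hzc g).symm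
    have hz1 : z ≠ 1 := by
      rintro rfl
      rw [orderOf_one] at hzo
      omega
    have hzz : z * z = 1 := (hEO hzE).2
    have hzneg : ∀ v : V, z • v = -v := eq_neg_of_plus hV hzz (hc z hzz hz1 hzg)
    -- an element outside `⟨z⟩`
    obtain ⟨a, haE, haz⟩ : ∃ a ∈ E, a ∉ Subgroup.zpowers z := by
      by_contra h
      push Not at h
      have h1 : Nat.card E ≤ Nat.card (Subgroup.zpowers z) := Subgroup.card_le_of_le h
      rw [hE4, Nat.card_zpowers, hzo] at h1
      norm_num at h1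
    have haa : a * a = 1 := (hEO haE).2
    have ha1 : a ≠ 1 := by
      rintro rfl
      exact haz (Subgroup.one_mem _)
    have hazne : a ≠ z := by
      rintro rfl
      exact haz (Subgroup.mem_zpowers _)
    have hmem : ∀ e ∈ E, e = 1 ∨ e = z ∨ e = a ∨ e = a * z := by
      intro e he
      by_contra hne
      push Not at hne
      obtain ⟨h1, h2, h3, h4⟩ := hne
      have h5 : ({1, z, a, a * z, e} : Set P) ⊆ E := by
        rintro y (rfl | rfl | rfl | rfl | rfl)
        · exact E.one_mem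
        · exact hzE
        · exact haE
        · exact E.mul_mem haE hzE
        · exact he
      have h6 : ({1, z, a, a * z, e} : Set P).ncard = 5 := by
        have e1 : a * z ≠ 1 := fun h => hazne
          ((eq_inv_of_mul_eq_one_left h).trans (inv_eq_of_mul_eq_one_left hzz))
        have e2 : a * z ≠ z := fun h => ha1 (by simpa using h)
        have e3 : a * z ≠ a := fun h => hz1 (by simpa using h)
        rw [Set.ncard_insert_of_notMem, Set.ncard_insert_of_notMem, Set.ncard_insert_of_notMem,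
          Set.ncard_pair]
        · exact Ne.symm h4
        · simp only [Set.mem_insert_iff, Set.mem_singleton_iff, not_or]
          exact ⟨Ne.symm e3, Ne.symm h3⟩
        · simp only [Set.mem_insert_iff, Set.mem_singleton_iff, not_or]
          exact ⟨Ne.symm hazne, Ne.symm e2, Ne.symm h2⟩
        · simp only [Set.mem_insert_iff, Set.mem_singleton_iff, not_or]
          exact ⟨Ne.symm hz1, Ne.symm ha1, Ne.symm e1, Ne.symm h1⟩
      have h7 : ({1, z, a, a * z, e} : Set P).ncard ≤ (E : Set P).ncard :=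
        Set.ncard_le_ncard h5 (Set.toFinite _)
      have h8 : (E : Set P).ncard = 4 := by
        rw [← Nat.card_coe_set_eq]
        exact hE4
      omega
    have hcj : ∀ g, g * a = a * g ∨ g * a = a * z * g := by
      intro g
      rcases hmem _ (hEn.conj_mem a haE g) with h1 | h1 | h1 | h1
      · exact absurd (conj_eq_one_iff.1 h1) ha1
      · exfalso
        apply hazne
        have h2 : g * a = z * g := mul_inv_eq_iff_eq_mul.1 h1
        rw [hzg g] at h2
        exact mul_left_cancel h2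
      · exact Or.inl (mul_inv_eq_iff_eq_mul.1 h1)
      · exact Or.inr (mul_inv_eq_iff_eq_mul.1 h1)
    -- `a` is not central
    have hplus : plus V a ≠ ⊥ := by
      intro h
      apply hazne
      have h1 := eq_neg_of_plus hV haa h
      have h2 : z⁻¹ * a = 1 := by
        apply hf
        intro v
        rw [mul_smul, h1, inv_smul_eq_iff, hzneg]
      exact (inv_mul_eq_one.1 h2).symm
    obtain ⟨t, ht⟩ : ∃ t : P, ¬ a * t = t * a := by
      by_contra h
      push Not at h
      exact hplus (hc a haa ha1 h)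
    have htt : t * a = a * z * t := (hcj t).resolve_left fun h => ht h.symm
    obtain ⟨u, hu⟩ : ∃ u : V, a • u ≠ u := by
      by_contra h
      push Not at h
      exact ha1 (hf _ h)
    have h4 : Four P V a z t :=
      { odd := hV
        faith := hf
        aa := haa
        neg := hzneg
        cj := hcj
        tt := htt
        ha := by
          by_contra h
          push Not at h
          exact hplus ((AddSubgroup.eq_bot_iff_forall _).2 h)
        ha' := exists_minus haa hu }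
    exact imprim_step IH hP h4

theorem claim : ∀ N : ℕ, IHyp.{u} N := by
  intro N
  induction N with
  | zero =>
    intro P V _ _ _ _ _ _ _ _ h
    exact absurd h (Nat.not_lt_zero _)
  | succ N ih =>
    intro P V _ _ _ _ _ hP hV hf hlt
    exact claim_of (fun P' V' _ _ _ _ _ h1 h2 h3 h4 => ih P' V' h1 h2 h3 (by omega)) hP hV hf

/-- **[RAT2]** -/
theorem rat_two : H527.RC.Rat.{u} 2 7 15 := by
  intro P V _ _ _ _ _ hP hV hf
  have hf2 : Fact (Nat.Prime 2) := ⟨Nat.prime_two⟩
  obtain ⟨v, n, a, h1, h2, h3⟩ := claim (Nat.card V + 1) P V hP hV hf (Nat.lt_succ_self _)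
  refine ⟨v, ?_⟩
  obtain ⟨b, hb⟩ := IsPGroup.iff_card.1 (hP.to_subgroup (stabilizer P v))
  rw [hb] at h2
  have h4 : b ≤ a := (Nat.pow_le_pow_iff_right (by norm_num)).1 h2
  rw [h1, hb, Nat.Prime.factorization_pow Nat.prime_two, Nat.Prime.factorization_pow Nat.prime_two,
    Finsupp.single_eq_same, Finsupp.single_eq_same]
  unfold Star at h3
  omega

end main

end Cfsg.Agent.H62.RC
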